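import Mathlib
import Cfsg.Agent.Lib.CharFS.Tri
import Cfsg.Agent.Lib.Char.Values

/-!
# Averaging idempotents in a matrix representation

Integrality of traces of averages over a subgroup, the projector on an eigenspace of an element of
order three.
-/

set_option autoImplicit false

namespace Cfsg.Agent.Lib.M11Order

open Cfsg Matrix Cfsg.Agent.Lib.CharFS.Tri Cfsg.Agent.Lib.CharFS.Indicator

open scoped ComplexConjugate

universe u

section Matrix

variable {m : Type*} [Fintype m] [DecidableEq m]

/-- The eigenprojector of a matrix of order three. -/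
theorem eig3_idem (M N : Matrix m m ℂ) (c d : ℂ) (hMM : M * M = N) (hMN : M * N = 1) (hNM : N * M = 1)
    (hNN : N * N = M) (hcd : c * d = 1) (hcc : c * c = d) (hdd : d * d = c) (h0 : 1 + c + d = 0) :
    ((1 / 3 : ℂ) • (1 + d • M + c • N)) * ((1 / 3 : ℂ) • (1 + d • M + c • N)) =
      (1 / 3 : ℂ) • (1 + d • M + c • N) := by
  have e : (1 + d • M + c • N) * (1 + d • M + c • N) =
      (1 + (c * d) + (c * d)) • (1 : Matrix m m ℂ) + (d + d + c * c) • M + (c + c + d * d) • N := by
    simp only [Matrix.mul_add, Matrix.add_mul, Matrix.smul_mul, Matrix.mul_smul, Matrix.one_mul, Matrix.mul_one,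
      hMM, hMN, hNM, hNN, smul_smul]
    ext i j
    simp only [Matrix.add_apply, Matrix.smul_apply, smul_eq_mul]
    ring
  rw [Matrix.smul_mul, Matrix.mul_smul, e, hcd, hcc, hdd, smul_smul]
  have h1 : (1 : ℂ) + 1 + 1 = 3 := by norm_num
  have h2 : d + d + d = 3 * d := by ring
  have h3 : c + c + c = 3 * c := by ring
  rw [h1, h2, h3]
  ext i j
  simp only [Matrix.add_apply, Matrix.smul_apply, smul_eq_mul]
  ring

end Matrix

section Rep

variable {G : Type u} [Group G] [Fintype G] {n : ℕ} (ρ : Representation ℂ G (Fin n → ℂ))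

/-- The average over a subgroup. -/
noncomputable def avgS (T : Subgroup G) [Fintype T] : Matrix (Fin n) (Fin n) ℂ :=
  (Nat.card T : ℂ)⁻¹ • ∑ t : T, X ρ (t : G)

theorem X_mul_avgS (T : Subgroup G) [Fintype T] {t : G} (ht : t ∈ T) : X ρ t * avgS ρ T = avgS ρ T := by
  simp only [avgS, Matrix.mul_smul, Finset.mul_sum, ← X_mul]
  congr 1
  exact Equiv.sum_comp (Equiv.mulLeft (⟨t, ht⟩ : T)) (fun s : T => X ρ (s : G))

theorem avgS_idem (T : Subgroup G) [Fintype T] : avgS ρ T * avgS ρ T = avgS ρ T := by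
  have hGne : (Nat.card T : ℂ) ≠ 0 := by
    exact_mod_cast (Nat.card_pos (α := T)).ne'
  calc avgS ρ T * avgS ρ T = ((Nat.card T : ℂ)⁻¹ • ∑ x : T, X ρ (x : G)) * avgS ρ T := rfl
    _ = (Nat.card T : ℂ)⁻¹ • ∑ y : T, X ρ (y : G) * avgS ρ T := by
        rw [Matrix.smul_mul, Finset.sum_mul]
    _ = (Nat.card T : ℂ)⁻¹ • ∑ _y : T, avgS ρ T := by
        congr 1
        exact Finset.sum_congr rfl fun y _ => X_mul_avgS ρ T y.2
    _ = avgS ρ T := by
        rw [Finset.sum_const, Finset.card_univ, ← Nat.card_eq_fintype_card, ← Nat.cast_smul_eq_nsmul ℂ,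
          smul_smul, inv_mul_cancel₀ hGne, one_smul]

theorem comm_avgS (T : Subgroup G) [Fintype T] {c : G} (hc : ∀ t ∈ T, t * c = c * t) :
    X ρ c * avgS ρ T = avgS ρ T * X ρ c := by
  simp only [avgS, Matrix.mul_smul, Matrix.smul_mul, Finset.mul_sum, Finset.sum_mul, ← X_mul]
  congr 1
  exact Finset.sum_congr rfl fun t _ => by rw [hc t t.2]

theorem trace_mul_avgS (T : Subgroup G) [Fintype T] (A : Matrix (Fin n) (Fin n) ℂ) :
    (A * avgS ρ T).trace = (Nat.card T : ℂ)⁻¹ * ∑ t : T, (A * X ρ (t : G)).trace := by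
  simp only [avgS, Matrix.mul_smul, Matrix.trace_smul, Finset.mul_sum, Matrix.trace_sum, smul_eq_mul]

/-- The trace of a product of commuting idempotents is a natural number. -/
theorem exists_nat_trace_mul_avgS (T : Subgroup G) [Fintype T] {A : Matrix (Fin n) (Fin n) ℂ}
    (hA : A * A = A) (hc : A * avgS ρ T = avgS ρ T * A) : ∃ r : ℕ, (A * avgS ρ T).trace = r := by
  apply trace_idempotent
  calc A * avgS ρ T * (A * avgS ρ T) = A * (avgS ρ T * A) * avgS ρ T := by noncomm_ring
    _ = A * (A * avgS ρ T) * avgS ρ T := by rw [hc]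
    _ = (A * A) * (avgS ρ T * avgS ρ T) := by noncomm_ring
    _ = A * avgS ρ T := by rw [hA, avgS_idem]

theorem sum_single_one (T : Subgroup G) [Fintype T] (f : G → ℂ) (hf : ∀ t : T, (t : G) ≠ 1 → f t = 0) :
    ∑ t : T, f (t : G) = f 1 := by
  rw [Finset.sum_eq_single (1 : T)]
  · simp
  · intro b _ hb
    apply hf
    intro h
    apply hb
    exact Subtype.ext h
  · simp

/-- A representation whose character vanishes off `1` on `T` has degree divisible by `|T|`. -/
theorem card_dvd_of_vanish (T : Subgroup G) [Fintype T] (hv : ∀ t : T, (t : G) ≠ 1 → ρ.character t = 0) :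
    Nat.card T ∣ n := by
  obtain ⟨r, hr⟩ := exists_nat_trace_mul_avgS ρ T (A := 1) (by simp) (by simp)
  rw [trace_mul_avgS] at hr
  simp only [Matrix.one_mul, ← char_eq_trace] at hr
  rw [sum_single_one T _ hv] at hr
  have h1 : ρ.character 1 = n := by
    rw [Representation.char_one]
    simp
  rw [h1] at hr
  have hT : (Nat.card T : ℂ) ≠ 0 := by exact_mod_cast (Nat.card_pos (α := T)).ne'
  have h2 : (n : ℂ) = Nat.card T * r := by
    field_simp at hr
    rw [hr]
  refine ⟨r, ?_⟩
  exact_mod_cast h2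

/-- The eigenvalue `-1` of an involution commuting with `T`, when the values on `T # y` equal the
values on `T #`. -/
theorem exists_nat_of_invol (T : Subgroup G) [Fintype T] {y : G} (hy : y * y = 1)
    (hc : ∀ t ∈ T, t * y = y * t)
    (hv : ∀ t : T, (t : G) ≠ 1 → ρ.character (y * t) = ρ.character t) :
    ∃ r : ℕ, ρ.character 1 - ρ.character y = 2 * (Nat.card T : ℂ) * r := by
  classical
  let F : Matrix (Fin n) (Fin n) ℂ := (1 / 2 : ℂ) • (1 - X ρ y)
  have hXX : X ρ y * X ρ y = 1 := by rw [← X_mul, hy, X_one]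
  have hF : F * F = F := by
    simp only [F, Matrix.smul_mul, Matrix.mul_smul, smul_smul, Matrix.mul_sub, Matrix.sub_mul, Matrix.one_mul,
      Matrix.mul_one, hXX]
    ext i j
    simp only [Matrix.sub_apply, Matrix.smul_apply, smul_eq_mul]
    ring
  have hFc : F * avgS ρ T = avgS ρ T * F := by
    simp only [F, Matrix.smul_mul, Matrix.mul_smul, Matrix.sub_mul, Matrix.mul_sub, Matrix.one_mul, Matrix.mul_one,
      comm_avgS ρ T hc]
  obtain ⟨r, hr⟩ := exists_nat_trace_mul_avgS ρ T hF hFc
  refine ⟨r, ?_⟩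
  rw [trace_mul_avgS] at hr
  have h1 : ∀ t : T, (F * X ρ (t : G)).trace = (1 / 2 : ℂ) * (ρ.character t - ρ.character (y * t)) := by
    intro t
    simp only [F, Matrix.smul_mul, Matrix.sub_mul, Matrix.one_mul, Matrix.trace_smul, Matrix.trace_sub, smul_eq_mul,
      ← X_mul, ← char_eq_trace]
  simp only [h1] at hr
  have h2 : ∑ t : T, (1 / 2 : ℂ) * (ρ.character t - ρ.character (y * t)) =
      (1 / 2 : ℂ) * (ρ.character 1 - ρ.character y) := by
    rw [sum_single_one T (fun t => (1 / 2 : ℂ) * (ρ.character t - ρ.character (y * t)))]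
    · simp
    · intro t ht
      rw [hv t ht]
      simp
  rw [h2] at hr
  have hT : (Nat.card T : ℂ) ≠ 0 := by exact_mod_cast (Nat.card_pos (α := T)).ne'
  field_simp at hr
  rw [hr]
  ring

/-- Multiplicity of a primitive cube root as an eigenvalue of an element of order three, and its
divisibility by the order of a subgroup on which the values vanish. -/
theorem exists_eig3 (T : Subgroup G) [Fintype T] {y : G} (hy : y ^ 3 = 1) (hreal : conj (ρ.character y) = ρ.character y)
    (hc : ∀ t ∈ T, t * y = y * t)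
    (hv : ∀ t : T, (t : G) ≠ 1 → ρ.character t = 0 ∧ ρ.character (y * t) = 0 ∧ ρ.character (y * y * t) = 0) :
    ∃ r : ℕ, (n : ℂ) - ρ.character y = 3 * (Nat.card T : ℂ) * r := by
  classical
  -- the root of unity
  obtain ⟨c, hc3, hc1⟩ : ∃ c : ℂ, c ^ 3 = 1 ∧ c ≠ 1 := by
    have h := Complex.isPrimitiveRoot_exp 3 (by norm_num)
    refine ⟨_, h.pow_eq_one, h.ne_one (by norm_num)⟩
  have h0 : 1 + c + c * c = 0 := by
    have : (c - 1) * (1 + c + c * c) = 0 := by linear_combination hc3
    exact (mul_eq_zero.1 this).resolve_left (sub_ne_zero.2 hc1)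
  let d : ℂ := c * c
  have hcd : c * d = 1 := by simp only [d]; linear_combination hc3
  have hdd : d * d = c := by simp only [d]; linear_combination c * hc3
  let M := X ρ y
  let N := X ρ (y * y)
  have hMM : M * M = N := by simp only [M, N, X_mul]
  have hMN : M * N = 1 := by
    simp only [M, N]
    rw [← X_mul, show y * (y * y) = y ^ 3 by rw [pow_succ, pow_two, mul_assoc], hy, X_one]
  have hNM : N * M = 1 := by
    simp only [M, N]
    rw [← X_mul, show y * y * y = y ^ 3 by rw [pow_succ, pow_two], hy, X_one]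
  have hNN : N * N = M := by
    simp only [M, N]
    rw [← X_mul, show y * y * (y * y) = y ^ 3 * y by rw [pow_succ, pow_two, mul_assoc, mul_assoc, mul_assoc], hy, one_mul]
  let E : Matrix (Fin n) (Fin n) ℂ := (1 / 3 : ℂ) • (1 + d • M + c • N)
  have hE : E * E = E := eig3_idem M N c d hMM hMN hNM hNN hcd rfl hdd h0
  have hEc : E * avgS ρ T = avgS ρ T * E := by
    have h1 : M * avgS ρ T = avgS ρ T * M := comm_avgS ρ T hc
    have h2 : N * avgS ρ T = avgS ρ T * N := by
      apply comm_avgS ρ T
      intro t ht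
      rw [← mul_assoc, hc t ht, mul_assoc, hc t ht, mul_assoc]
    simp only [E, Matrix.smul_mul, Matrix.mul_smul, Matrix.add_mul, Matrix.mul_add, Matrix.one_mul, Matrix.mul_one,
      h1, h2]
  obtain ⟨r, hr⟩ := exists_nat_trace_mul_avgS ρ T hE hEc
  refine ⟨r, ?_⟩
  rw [trace_mul_avgS] at hr
  have h1 : ∀ t : T, (E * X ρ (t : G)).trace = (1 / 3 : ℂ) * (ρ.character t + d * ρ.character (y * t) +
      c * ρ.character (y * y * t)) := by
    intro t
    simp only [E, M, N, Matrix.smul_mul, Matrix.add_mul, Matrix.one_mul, Matrix.trace_smul, Matrix.trace_add, smul_eq_mul,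
      ← X_mul, ← char_eq_trace]
  simp only [h1] at hr
  have h2 : ∑ t : T, (1 / 3 : ℂ) * (ρ.character t + d * ρ.character (y * t) + c * ρ.character (y * y * t)) =
      (1 / 3 : ℂ) * (ρ.character 1 + d * ρ.character y + c * ρ.character (y * y)) := by
    rw [sum_single_one T (fun t => (1 / 3 : ℂ) * (ρ.character t + d * ρ.character (y * t) +
      c * ρ.character (y * y * t)))]
    · simp
    · intro t ht
      obtain ⟨h3, h4, h5⟩ := hv t ht
      rw [h3, h4, h5]
      simp
  rw [h2] at hr
  have h3 : ρ.character (y * y) = ρ.character y := by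
    have h4 : y * y = y⁻¹ := by
      apply eq_inv_of_mul_eq_one_left
      rw [show y * y * y = y ^ 3 by rw [pow_succ, pow_two], hy]
    rw [h4, Cfsg.Agent.Lib.Char.Values.character_inv, hreal]
  have h4 : ρ.character 1 = n := by
    rw [Representation.char_one]
    simp
  rw [h3, h4] at hr
  have hT : (Nat.card T : ℂ) ≠ 0 := by exact_mod_cast (Nat.card_pos (α := T)).ne'
  have h5 : d = -1 - c := by simp only [d]; linear_combination h0
  rw [h5] at hr
  field_simp at hr
  linear_combination hr

end Rep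

end Cfsg.Agent.Lib.M11Order
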