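import Mathlib
import Cfsg.Agent.Lib.Basic.SmallSimple
import Cfsg.Agent.Lib.DefectOne.SelfCent
import Cfsg.Agent.Lib.DefectOne.FewChar
import Cfsg.Agent.Lib.DefectOne.BlockD
import Cfsg.Agent.Lib.Blocks.ClassIndep
import Cfsg.Agent.Lib.Char.CompleteCor
import Cfsg.Agent.Lib.Char.SimpleFaithful
import Cfsg.Agent.Lib.Char.BrauerSCNum
import Cfsg.Agent.Lib.M11Order.Avg

/-!
# Simple groups of order 7920: the local structure at 11
-/

set_option autoImplicit false
set_option linter.style.haveILetI false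
set_option linter.unusedVariables false
set_option linter.unusedSectionVars false

namespace Cfsg.Agent.Lib.M11Order

open Subgroup Cfsg Finset Cfsg.Agent.Lib.DefectOne Cfsg.Agent.Lib.DefectOne.FewInd

open scoped ComplexConjugate commutatorElement

universe u

section General

variable {G : Type u} [Group G] [Finite G]

theorem card_norm_dvd {P : Subgroup G} {p : ℕ} [Fact p.Prime] (hc : Nat.card P = p) :
    Nat.card (normalizer (P : Set G)) ∣ Nat.card (centralizer (P : Set G)) * (p - 1) := by
  haveI : Fact (Nat.card P).Prime := ⟨by rw [hc]; exact Fact.out⟩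
  haveI := isCyclic_of_prime_card (α := P) rfl
  let φ := P.normalizerMonoidHom
  have h1 : Nat.card (normalizer (P : Set G)) = Nat.card φ.ker * Nat.card φ.range := by
    rw [← Subgroup.index_ker, mul_comm, Subgroup.index_mul_card]
  have h2 : Nat.card φ.range ∣ p - 1 := by
    have h3 : Nat.card φ.range ∣ Nat.card (MulAut P) := Subgroup.card_subgroup_dvd_card _
    rw [IsCyclic.card_mulAut, hc, Nat.totient_prime Fact.out] at h3
    exact h3
  have h4 : Nat.card φ.ker = Nat.card (centralizer (P : Set G)) := by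
    have h5 : φ.ker = (centralizer (P : Set G)).subgroupOf (normalizer (P : Set G)) :=
      Subgroup.normalizerMonoidHom_ker P
    rw [h5]
    have hle : centralizer (P : Set G) ≤ normalizer (P : Set G) :=
      Subgroup.centralizer_le_normalizer (P : Set G)
    exact Nat.card_congr (Subgroup.subgroupOfEquivOfLe hle).toEquiv
  rw [h1, h4]
  exact Nat.mul_dvd_mul_left _ h2

/-- A generator of a subgroup of prime order. -/
theorem exists_gen {p : ℕ} [Fact p.Prime] {P : Subgroup G} (hc : Nat.card P = p) :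
    ∃ x : G, orderOf x = p ∧ zpowers x = P := by
  haveI : Fact (Nat.card P).Prime := ⟨by rw [hc]; exact Fact.out⟩
  haveI := isCyclic_of_prime_card (α := P) rfl
  obtain ⟨g, hg⟩ := IsCyclic.exists_generator (α := P)
  have ho : orderOf g = p := by
    rw [orderOf_eq_card_of_forall_mem_zpowers hg, hc]
  have ho' : orderOf (g : G) = p := by rw [Subgroup.orderOf_coe, ho]
  refine ⟨g, ho', ?_⟩
  apply Subgroup.eq_of_le_of_card_ge
  · rw [zpowers_le]
    exact g.2
  · rw [Nat.card_zpowers, ho', hc]

/-- Commuting with `x` is the same as centralizing `⟨x⟩`. -/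
theorem mem_cent_zpowers {x c : G} : c ∈ centralizer (zpowers x : Set G) ↔ c * x = x * c := by
  constructor
  · intro hc
    exact (Subgroup.mem_centralizer_iff.1 hc x (Subgroup.mem_zpowers x)).symm
  · intro hc
    rw [Subgroup.mem_centralizer_iff]
    intro h hh
    obtain ⟨k, rfl⟩ := Subgroup.mem_zpowers_iff.1 hh
    have : Commute c x := hc
    exact (this.zpow_right k).eq.symm

theorem card_sylow_of_card {p m : ℕ} [Fact p.Prime] (hN : Nat.card G = p * m) (hpm : ¬ p ∣ m)
    (P : Sylow p G) : Nat.card (P : Subgroup G) = p :=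
  Cfsg.Agent.Lib.Basic.SmallSimple.card_sylow_eq_of_card_eq Fact.out hN hpm P

theorem sylow_arith {p m : ℕ} [Fact p.Prime] (hN : Nat.card G = p * m) (hpm : ¬ p ∣ m) (P : Sylow p G) :
    Nat.card (Sylow p G) ∣ m ∧ Nat.card (Sylow p G) % p = 1 % p ∧
      Nat.card (Sylow p G) * Nat.card (normalizer ((P : Subgroup G) : Set G)) = p * m := by
  have hcard := card_sylow_of_card hN hpm P
  have hidx := Subgroup.card_mul_index (P : Subgroup G)
  have hp : p.Prime := Fact.out
  have hpidx : (P : Subgroup G).index = m := by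
    rw [hcard, hN] at hidx
    exact Nat.eq_of_mul_eq_mul_left hp.pos hidx
  refine ⟨hpidx ▸ P.card_dvd_index, card_sylow_modEq_one p G, ?_⟩
  have hnidx : (normalizer ((P : Subgroup G) : Set G)).index = Nat.card (Sylow p G) :=
    (Sylow.card_eq_index_normalizer P).symm
  rw [← hnidx, mul_comm, Subgroup.card_mul_index, hN]

theorem smul_sylow_eq_of {p : ℕ} {P : Sylow p G} {u : G} (h : u ∈ normalizer ((P : Subgroup G) : Set G)) :
    u • P = P := Sylow.smul_eq_iff_mem_normalizer.2 h

/-- An element of order `p` in a group with `p + 1` Sylow `p`-subgroups of order `p` is self-centralizing. -/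
theorem selfC_of_succ [IsSimpleGroup G] {p : ℕ} [hp : Fact p.Prime] (P : Sylow p G) (hcard : Nat.card (P : Subgroup G) = p)
    (hn : Nat.card (Sylow p G) = p + 1) {x : G} (hx : orderOf x = p) (hz : zpowers x = (P : Subgroup G))
    {c : G} (hc : c * x = x * c) : c ∈ zpowers x := by
  classical
  letI : Fintype G := Fintype.ofFinite G
  have hpp := hp.out
  have hQcard : ∀ Q : Sylow p G, Nat.card (Q : Subgroup G) = p := fun Q => by
    rw [Sylow.card_eq_multiplicity Q, ← Sylow.card_eq_multiplicity P, hcard]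
  letI : Fintype (Sylow p G) := Fintype.ofFinite _
  -- nontrivial powers of `x` move every other Sylow subgroup
  have hmove : ∀ Q : Sylow p G, Q ≠ P → ∀ u ∈ zpowers x, u ≠ 1 → u • Q ≠ Q := by
    intro Q hQ u hu hu1 hfix
    apply hQ
    have hu' : u ∈ normalizer ((Q : Subgroup G) : Set G) := Sylow.smul_eq_iff_mem_normalizer.1 hfix
    have hpg : IsPGroup p (zpowers u) := by
      apply IsPGroup.of_card (n := 1)
      have h1 : orderOf u ∣ p := by
        have := Subgroup.orderOf_dvd_natCard (zpowers x) hu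
        rwa [Nat.card_zpowers, hx] at this
      rcases (Nat.dvd_prime hpp).1 h1 with h2 | h2
      · exact absurd (orderOf_eq_one_iff.1 h2) hu1
      · rw [Nat.card_zpowers, h2, pow_one]
    have h1 := IsPGroup.inf_normalizer_sylow hpg Q
    have h2 : u ∈ zpowers u ⊓ (Q : Subgroup G) := h1.le ⟨mem_zpowers u, hu'⟩
    have huQ : u ∈ (Q : Subgroup G) := h2.2
    have hxu : x ∈ zpowers u := mem_zpowers_of_ne hx hu hu1
    have hxQ : x ∈ (Q : Subgroup G) := (zpowers_le.2 huQ) hxu
    have hPQ : (P : Subgroup G) ≤ Q := by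
      rw [← hz, zpowers_le]
      exact hxQ
    apply Sylow.ext
    symm
    apply Subgroup.eq_of_le_of_card_ge hPQ
    rw [hQcard, hcard]
  have hxfix : ∀ u ∈ zpowers x, u • P = P := by
    intro u hu
    apply smul_sylow_eq_of
    apply Subgroup.le_normalizer
    rw [← hz]
    exact hu
  have hne2 : Nontrivial (Sylow p G) := by
    rw [← Finite.one_lt_card_iff_nontrivial, hn]
    have := hpp.pos
    omega
  obtain ⟨Q₀, hQ₀⟩ := exists_ne P
  have hsmul_ne : ∀ g : G, g • P = P → ∀ Q : Sylow p G, Q ≠ P → g • Q ≠ P := by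
    intro g hg Q hQ h
    apply hQ
    have : g • Q = g • P := by rw [h, hg]
    exact smul_left_cancel g this
  let f : Fin p → {Q : Sylow p G // Q ≠ P} := fun k =>
    ⟨x ^ (k : ℕ) • Q₀, hsmul_ne _ (hxfix _ (npow_mem_zpowers x k)) Q₀ hQ₀⟩
  have hfinj : Function.Injective f := by
    intro a b hab
    have h1 : x ^ (a : ℕ) • Q₀ = x ^ (b : ℕ) • Q₀ := congrArg Subtype.val hab
    by_contra hne
    wlog hlt : (a : ℕ) < b generalizing a b
    · exact this hab.symm h1.symm (Ne.symm hne) (by
        have h2 : (a : ℕ) ≠ b := fun h => hne (Fin.ext h)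
        omega)
    have h2 : x ^ ((b : ℕ) - a) • Q₀ = Q₀ := by
      have h3 : x ^ (b : ℕ) = x ^ (a : ℕ) * x ^ ((b : ℕ) - a) := by
        rw [← pow_add]
        congr 1
        omega
      rw [h3, mul_smul] at h1
      exact (smul_left_cancel _ h1).symm
    refine hmove Q₀ hQ₀ _ (npow_mem_zpowers x _) ?_ h2
    intro h3
    have h4 := orderOf_dvd_of_pow_eq_one h3
    rw [hx] at h4
    have h5 : (b : ℕ) - a < p := by
      have := b.2
      omega
    have h6 := Nat.le_of_dvd (by omega) h4
    omega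
  have hfsurj : Function.Surjective f := by
    have hc1 : Nat.card {Q : Sylow p G // Q ≠ P} = p := by
      have h1 := Fintype.card_subtype_compl (fun Q : Sylow p G => Q = P)
      rw [Fintype.card_subtype_eq, ← Nat.card_eq_fintype_card (α := Sylow p G), hn] at h1
      rw [Nat.card_eq_fintype_card]
      exact h1.trans (by simp)
    have hb := Function.Injective.bijective_of_nat_card_le hfinj (by rw [hc1]; simp)
    exact hb.2
  obtain ⟨k, hk⟩ := hfsurj ⟨c • Q₀, hsmul_ne _ (by
    apply smul_sylow_eq_of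
    rw [← hz]
    exact Subgroup.centralizer_le_normalizer _ (mem_cent_zpowers.2 hc)) Q₀ hQ₀⟩
  have hk' : x ^ (k : ℕ) • Q₀ = c • Q₀ := congrArg Subtype.val hk
  set u : G := (x ^ (k : ℕ))⁻¹ * c with hu
  have hucomm : u * x = x * u := by
    have h1 : Commute x c := (show Commute c x from hc).symm
    have h2 : Commute (x ^ (k : ℕ))⁻¹ x := ((Commute.refl x).pow_left _).inv_left
    exact (h2.mul_left h1.symm)
  have huQ₀ : u • Q₀ = Q₀ := by
    rw [hu, mul_smul, ← hk', inv_smul_smul]
  have hupow : ∀ l : ℕ, u * x ^ l = x ^ l * u := fun l => ((show Commute u x from hucomm).pow_right l).eq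
  have hufix : ∀ Q : Sylow p G, u • Q = Q := by
    intro Q
    by_cases hQ : Q = P
    · rw [hQ]
      apply smul_sylow_eq_of
      rw [← hz]
      exact Subgroup.centralizer_le_normalizer _ (mem_cent_zpowers.2 hucomm)
    · obtain ⟨l, hl⟩ := hfsurj ⟨Q, hQ⟩
      have hl' : x ^ (l : ℕ) • Q₀ = Q := congrArg Subtype.val hl
      rw [← hl', smul_smul, hupow, mul_smul, huQ₀]
  let φ : G →* Equiv.Perm (Sylow p G) := MulAction.toPermHom G (Sylow p G)
  have hker : φ.ker = ⊥ := by
    rcases (inferInstance : IsSimpleGroup G).eq_bot_or_eq_top_of_normal φ.ker (MonoidHom.normal_ker φ) with h | h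
    · exact h
    · exfalso
      obtain ⟨g, hg⟩ := MulAction.exists_smul_eq G P Q₀
      have h1 : g ∈ φ.ker := by rw [h]; trivial
      have h2 : φ g = 1 := h1
      have h3 : g • P = P := DFunLike.congr_fun h2 P
      rw [h3] at hg
      exact hQ₀ hg.symm
  have hu1 : u = 1 := by
    have h1 : u ∈ φ.ker := by
      change φ u = 1
      apply Equiv.ext
      intro Q
      exact hufix Q
    rw [hker] at h1
    exact h1
  have hcx : c = x ^ (k : ℕ) := by
    rw [hu, inv_mul_eq_one] at hu1
    exact hu1.symm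
  rw [hcx]
  exact npow_mem_zpowers x k

end General


section Deg

variable {G : Type u} [Group G] [Fintype G]

/-- The degree of an irreducible character. -/
noncomputable abbrev dg (χ : IrrCharacter G) : ℕ := charDegree (χ : G → ℂ)

theorem dg_cast (χ : IrrCharacter G) : (χ : G → ℂ) 1 = (dg χ : ℂ) :=
  (Cfsg.Agent.Lib.Char.Values.IsCharacter.charDegree_cast
    (Cfsg.Agent.Lib.Char.Basic.isCharacter_of_isIrrCharacter χ.2)).symm

theorem dg_pos (χ : IrrCharacter G) : 0 < dg χ := irr_degree_pos' χ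

theorem dg_dvd (χ : IrrCharacter G) : dg χ ∣ Nat.card G :=
  Cfsg.Agent.Lib.Char.BrauerSCNum.degree_dvd χ _ (dg_cast χ)

variable [Fintype (IrrCharacter G)]

theorem sum_dg_sq : ∑ χ : IrrCharacter G, dg χ ^ 2 = Nat.card G := by
  have h := Cfsg.Agent.Lib.Char.CompleteCor.column_orth_conj (G := G) (IsConj.refl (1 : G))
  have h1 : Nat.card (centralizer ({1} : Set G)) = Nat.card G := by
    rw [show centralizer ({1} : Set G) = ⊤ by
      ext g
      simp [Subgroup.mem_centralizer_singleton_iff], Subgroup.card_top]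
  rw [h1] at h
  have h2 : ∀ χ : IrrCharacter G, (χ : G → ℂ) 1 * conj ((χ : G → ℂ) 1) = ((dg χ ^ 2 : ℕ) : ℂ) := by
    intro χ
    rw [dg_cast χ, Complex.conj_natCast]
    push_cast
    ring
  simp only [h2] at h
  exact_mod_cast h

theorem sum_subset_dg_sq_le (s : Finset (IrrCharacter G)) : ∑ χ ∈ s, dg χ ^ 2 ≤ Nat.card G := by
  rw [← sum_dg_sq]
  exact Finset.sum_le_sum_of_subset (Finset.subset_univ s)

/-- The value of the rep at `XX x i` is what the table says for every nontrivial element of `⟨x⟩`. -/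
theorem exists_XX {p : ℕ} [Fact p.Prime] {x : G} (hx : orderOf x = p) {t : G} (ht : t ∈ zpowers x) (ht1 : t ≠ 1) :
    ∃ i : ZMod p, i ≠ 0 ∧ t = XX x i := by
  obtain ⟨n, rfl⟩ := (mem_powers_iff_mem_zpowers).2 ht
  refine ⟨(n : ZMod p), ?_, (XX_natCast hx n).symm⟩
  intro h
  apply ht1
  have h1 : p ∣ n := (ZMod.natCast_eq_zero_iff n p).1 h
  simp only
  rw [← hx] at h1
  exact orderOf_dvd_iff_pow_eq_one.1 h1

end Deg

section Simple

variable {G : Type u} [Group G] [Fintype G] [IsSimpleGroup G]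

theorem commutator_eq_top_of_not_prime (h : ¬ (Nat.card G).Prime) : commutator G = ⊤ := by
  rcases (inferInstance : IsSimpleGroup G).eq_bot_or_eq_top_of_normal (commutator G) inferInstance with h1 | h1
  · exfalso
    apply h
    have hc : ∀ a b : G, a * b = b * a := by
      intro a b
      have h2 : ⁅a, b⁆ ∈ commutator G := Subgroup.commutator_mem_commutator (Subgroup.mem_top a) (Subgroup.mem_top b)
      rw [h1, Subgroup.mem_bot, commutatorElement_eq_one_iff_mul_comm] at h2
      exact h2
    haveI : IsMulCommutative G := ⟨⟨hc⟩⟩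
    exact Group.is_simple_iff_prime_card.mp inferInstance
  · exact h1

/-- A nontrivial irreducible character of a simple group is faithful. -/
theorem eq_one_of_value_eq (θ : IrrCharacter G) (hθ : dg θ ≠ 1) {g : G} (hg : (θ : G → ℂ) g = (θ : G → ℂ) 1) : g = 1 := by
  have hd := dg_cast θ
  obtain ⟨χ, n, ρ, hρ, rfl⟩ := θ
  haveI : ρ.IsIrreducible := hρ
  have hne : ρ.character ≠ fun _ => 1 := by
    intro h
    apply hθ
    have h1 : ρ.character 1 = (dg (⟨ρ.character, n, ρ, hρ, rfl⟩ : IrrCharacter G) : ℂ) := hd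
    have h2 : ρ.character 1 = 1 := congrFun h 1
    rw [h2] at h1
    exact_mod_cast h1.symm
  have hinj := Cfsg.Agent.Lib.Char.SimpleFaithful.injective_of_irr_ne_one ρ hne
  apply hinj
  rw [map_one]
  have h1 : ρ.character g = (Module.finrank ℂ (Fin n → ℂ) : ℂ) := by
    simp only at hg
    rw [hg, Representation.char_one]
  exact (Cfsg.Agent.Lib.Char.Values.character_eq_finrank_iff ρ g).1 h1

end Simple

section N45

variable {G : Type u} [Group G] [Fintype G] [IsSimpleGroup G]

/-- The arithmetic of the principal block when `e = 2`. -/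
theorem arith45 (d D : ℕ) (ε δ : ℤ) (hd : d ≤ 39) (hd0 : 0 < d) (hD : D ≤ 89) (hD2 : 2 ≤ D) (hdd : d ∣ 7920) (hDd : D ∣ 7920)
    (hε : ε = 1 ∨ ε = -1) (hδ : δ = 1 ∨ δ = -1) (hrel : ε * d = 1 + δ * D)
    (hdeg : (d : ℤ) ≡ ε * 2 [ZMOD 11]) (hDeg : (D : ℤ) ≡ δ [ZMOD 11]) : d = 9 := by
  have key : ∀ d ∈ Finset.Icc 1 39, ∀ D ∈ Finset.Icc 2 89, d ∣ 7920 → D ∣ 7920 →
      ((d = D + 1 ∧ d % 11 = 2 ∧ D % 11 = 1) ∨ (D = d + 1 ∧ d % 11 = 9 ∧ D % 11 = 10)) → d = 9 := by decide +kernel
  apply key d (Finset.mem_Icc.2 ⟨hd0, hd⟩) D (Finset.mem_Icc.2 ⟨hD2, hD⟩) hdd hDd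
  unfold Int.ModEq at hdeg hDeg
  rcases hε with rfl | rfl <;> rcases hδ with rfl | rfl <;> omega

theorem no45 (hG : Nat.card G = 7920) (P : Sylow 11 G) (hn : Nat.card (Sylow 11 G) = 45) : False := by
  classical
  haveI : Fact (Nat.Prime 11) := ⟨by norm_num⟩
  letI : Fintype (IrrCharacter G) := Fintype.ofFinite _
  have hnotprime : ¬ (Nat.card G).Prime := by rw [hG]; norm_num
  have hperf := commutator_eq_top_of_not_prime (G := G) hnotprime
  have hN : Nat.card G = 11 * 720 := by rw [hG]
  have hcard := card_sylow_of_card hN (by norm_num) P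
  obtain ⟨x, hx, hz⟩ := exists_gen hcard
  obtain ⟨-, -, h3⟩ := sylow_arith hN (by norm_num) P
  have hNc : Nat.card (normalizer ((P : Subgroup G) : Set G)) = 176 := by
    rw [hn] at h3
    omega
  have hdvd := card_norm_dvd hcard
  rw [hNc] at hdvd
  set C := centralizer ((P : Subgroup G) : Set G) with hC
  have hCN : C ≤ normalizer ((P : Subgroup G) : Set G) := Subgroup.centralizer_le_normalizer _
  have hCd : Nat.card C ∣ 176 := by
    rw [← hNc]
    exact Subgroup.card_dvd_of_le hCN
  have hC88 : Nat.card C = 88 ∨ Nat.card C = 176 := by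
    have h1 : 88 ∣ Nat.card C := by
      have : 88 ∣ Nat.card C * 5 := by
        obtain ⟨k, hk⟩ := hdvd
        exact ⟨k, by omega⟩
      exact (Nat.Coprime.dvd_of_dvd_mul_right (by norm_num) this)
    obtain ⟨k, hk⟩ := h1
    have hk1 : k ≤ 2 := by
      have h2 := Nat.le_of_dvd (by norm_num) hCd
      omega
    have hk0 : 0 < Nat.card C := Nat.card_pos
    interval_cases k <;> omega
  have hC88' : Nat.card C = 88 := by
    rcases hC88 with h | h
    · exact h
    · exfalso
      have hle : normalizer ((P : Subgroup G) : Set G) ≤ C := by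
        have h1 : C = normalizer ((P : Subgroup G) : Set G) := by
          apply Subgroup.eq_of_le_of_card_ge hCN
          rw [hNc, h]
        rw [h1]
      have h2 := Cfsg.Agent.Lib.Basic.SmallSimple.card_eq_of_le_centralizer (by rw [hG]; norm_num) P hle
      rw [hcard, hG] at h2
      omega
  have hxP : x ∈ (P : Subgroup G) := by rw [← hz]; exact mem_zpowers x
  have hx1 : x ≠ 1 := by
    rintro rfl
    rw [orderOf_one] at hx
    omega
  obtain ⟨-, H, hL⟩ := exists_localData P hcard hxP hx1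
  letI : Fintype H := Fintype.ofFinite _
  obtain ⟨M, hM⟩ := Cfsg.Agent.Lib.Blocks.ClassIndep.exists_modular 11 (by norm_num)
  have hζ := Complex.isPrimitiveRoot_exp 11 (by norm_num)
  obtain ⟨e, t, X, Y, δ, ε, b, hT⟩ := exists_pTable hL hM P hz hζ
  -- `e = 2`, `t = 5`
  have he : e = 2 := by
    have h1 := hT.idx
    rw [hz, ← hC] at h1
    have h2 := Subgroup.card_mul_index (C.subgroupOf (normalizer ((P : Subgroup G) : Set G)))
    have h3 : Nat.card (C.subgroupOf (normalizer ((P : Subgroup G) : Set G))) = Nat.card C :=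
      Nat.card_congr (Subgroup.subgroupOfEquivOfLe hCN).toEquiv
    have h4 : (C.subgroupOf (normalizer ((P : Subgroup G) : Set G))).index = e := h1
    rw [h3, h4, hC88', hNc] at h2
    omega
  have ht : t = 5 := by
    have h1 := hT.het
    rw [he] at h1
    norm_num at h1
    omega
  subst he ht
  obtain ⟨hτX, hτδ⟩ := hT.triv (by norm_num)
  set τ : IrrCharacter G := Cfsg.Agent.Lib.Blocks.Principal.trivChar G with hτ
  have hτdg : dg τ = 1 := by
    unfold dg charDegree
    simp [hτ]
  have hsum := sum_subset_dg_sq_le (G := G) (X ∪ Y)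
  rw [hG] at hsum
  -- the degree relation
  have hX2 := hT.cardX
  obtain ⟨χ₁, χ₂, hne, hXeq⟩ := Finset.card_eq_two.1 hX2
  have hex : ∃ χ₀, χ₀ ≠ τ ∧ X = {τ, χ₀} := by
    have h1 : τ = χ₁ ∨ τ = χ₂ := by
      have := hτX
      rw [hXeq] at this
      simpa using this
    rcases h1 with h1 | h1
    · exact ⟨χ₂, by rw [h1]; exact hne.symm, by rw [hXeq, h1]⟩
    · refine ⟨χ₁, by rw [h1]; exact hne, ?_⟩
      rw [hXeq, h1, Finset.pair_comm]
  obtain ⟨χ₀, hχ₀, hXe⟩ := hex
  have hχ₀X : χ₀ ∈ X := by rw [hXe]; simp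
  have hD2 : 2 ≤ dg χ₀ := by
    have h1 := dg_pos χ₀
    by_contra h2
    have h3 : dg χ₀ = 1 := by omega
    exact hχ₀ (eq_triv_of_deg_one hperf χ₀ h3)
  have hrel1 : ∀ θ ∈ Y, (ε : ℂ) * (dg θ : ℂ) = 1 + (δ χ₀ : ℂ) * (dg χ₀ : ℂ) := by
    intro θ hθ
    have h1 := hT.rel 1 (by simp) θ hθ
    rw [dg_cast θ, hXe, Finset.sum_pair hχ₀.symm, dg_cast τ, dg_cast χ₀, hτdg, hτδ] at h1
    rw [h1]
    simp
  have hrelZ : ∀ θ ∈ Y, ε * (dg θ : ℤ) = 1 + δ χ₀ * (dg χ₀ : ℤ) := by
    intro θ hθ
    have h1 := hrel1 θ hθ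
    exact_mod_cast h1
  -- all the degrees in `Y` agree
  have hY5 := hT.cardY
  obtain ⟨θ, hθ⟩ : Y.Nonempty := by
    rw [← Finset.card_pos, hY5]
    norm_num
  have hsame : ∀ θ' ∈ Y, dg θ' = dg θ := by
    intro θ' hθ'
    have h1 := hrelZ θ hθ
    have h2 := hrelZ θ' hθ'
    rcases hT.sign with h | h <;> rw [h] at h1 h2 <;> omega
  have hsum2 : 5 * dg θ ^ 2 ≤ 7920 := by
    have h1 : ∑ χ ∈ Y, dg χ ^ 2 ≤ ∑ χ ∈ X ∪ Y, dg χ ^ 2 := Finset.sum_le_sum_of_subset Finset.subset_union_right
    have h2 : ∑ χ ∈ Y, dg χ ^ 2 = 5 * dg θ ^ 2 := by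
      rw [Finset.sum_congr rfl (fun χ hχ => by rw [hsame χ hχ]), Finset.sum_const, hY5, smul_eq_mul]
    omega
  have hd39 : dg θ ≤ 39 := by
    by_contra h
    have h2 : 40 ≤ dg θ := by omega
    nlinarith
  have hsum3 : 1 + dg χ₀ ^ 2 ≤ 7920 := by
    have h1 : ∑ χ ∈ X, dg χ ^ 2 ≤ ∑ χ ∈ X ∪ Y, dg χ ^ 2 := Finset.sum_le_sum_of_subset Finset.subset_union_left
    have h2 : ∑ χ ∈ X, dg χ ^ 2 = 1 + dg χ₀ ^ 2 := by
      rw [hXe, Finset.sum_pair hχ₀.symm, hτdg]
      norm_num
    omega
  have hD89 : dg χ₀ ≤ 89 := by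
    by_contra h
    have h2 : 90 ≤ dg χ₀ := by omega
    nlinarith
  have hd9 : dg θ = 9 := by
    apply arith45 (dg θ) (dg χ₀) ε (δ χ₀) hd39 (dg_pos θ) hD89 hD2
    · rw [← hG]
      exact dg_dvd θ
    · rw [← hG]
      exact dg_dvd χ₀
    · exact hT.sign
    · exact hT.signX χ₀ hχ₀X
    · exact hrelZ θ hθ
    · have h1 := hT.degY θ hθ
      exact_mod_cast h1
    · exact hT.degX χ₀ hχ₀X
  -- an involution in `H`
  have hCeven : 2 ∣ Nat.card C := by rw [hC88']; norm_num
  haveI : Fact (Nat.Prime 2) := ⟨by norm_num⟩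
  obtain ⟨c, hc⟩ := exists_prime_orderOf_dvd_card' 2 hCeven
  set y : G := (c : G) with hy
  have hyo : orderOf y = 2 := by rw [hy, Subgroup.orderOf_coe, hc]
  have hyx : y * x = x * y := by
    have h1 : y ∈ centralizer (zpowers x : Set G) := by
      rw [hz]
      exact c.2
    exact mem_cent_zpowers.1 h1
  have hyy : y * y = 1 := by
    rw [← pow_two, ← hyo]
    exact pow_orderOf_eq_one y
  have hy1 : y ≠ 1 := by
    intro h
    rw [h, orderOf_one] at hyo
    omega
  have hyH : y ∈ H := by
    obtain ⟨i, h, hh, hyeq⟩ := hL.decomp y hyx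
    have hcomm : Commute (x ^ i) h := ((show Commute h x from hL.comm h hh).pow_right i).symm
    have h1 : y ^ 11 = h ^ 11 := by
      rw [hyeq, hcomm.mul_pow, ← pow_mul, mul_comm i 11, pow_mul]
      have h2 : x ^ 11 = 1 := by rw [← hx]; exact pow_orderOf_eq_one x
      rw [h2, one_pow, one_mul]
    have h2 : y ^ 11 = y := by
      rw [show (11 : ℕ) = 2 * 5 + 1 by norm_num, pow_succ, pow_mul, pow_two, hyy]
      simp
    rw [← h2, h1]
    exact pow_mem hh 11
  -- the trace computation
  obtain ⟨χ, n, ρ, hρ, hχ⟩ := θ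
  subst hχ
  have hv : ∀ t : zpowers x, (t : G) ≠ 1 → ρ.character (y * t) = ρ.character t := by
    intro t ht
    obtain ⟨i, hi, hi'⟩ := exists_XX hx t.2 ht
    have h1 := hT.valY ⟨ρ.character, n, ρ, hρ, rfl⟩ hθ i hi ⟨y, hyH⟩
    have h2 := hT.valY ⟨ρ.character, n, ρ, hρ, rfl⟩ hθ i hi 1
    simp only [OneMemClass.coe_one, mul_one] at h1 h2
    have h3 : y * t = XX x i * y := by
      rw [hi']
      unfold XX
      exact ((show Commute y x from hyx).pow_right _).eq
    rw [h3, h1, hi', h2]
  obtain ⟨r, hr⟩ := exists_nat_of_invol ρ (zpowers x) hyy (by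
    intro t ht
    obtain ⟨k, rfl⟩ := Subgroup.mem_zpowers_iff.1 ht
    exact ((show Commute y x from hyx).zpow_right k).eq.symm) hv
  rw [Nat.card_zpowers, hx] at hr
  have hone : ρ.character 1 = (9 : ℂ) := by
    have h1 := dg_cast (⟨ρ.character, n, ρ, hρ, rfl⟩ : IrrCharacter G)
    rw [hd9] at h1
    simpa using h1
  have hnorm : ‖ρ.character y‖ ≤ 9 := by
    have h1 := Cfsg.Agent.Lib.Char.Values.IsCharacter.norm_le (χ := ρ.character) ⟨n, ρ, rfl⟩ y
    rw [hone] at h1
    simpa using h1
  have hval : ρ.character y = ((9 - 22 * (r : ℝ) : ℝ) : ℂ) := by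
    rw [hone] at hr
    push_cast
    push_cast at hr
    linear_combination -hr
  have hr0 : r = 0 := by
    by_contra hr0
    have hr1 : (1 : ℝ) ≤ r := by exact_mod_cast Nat.one_le_iff_ne_zero.2 hr0
    rw [hval, Complex.norm_real, Real.norm_eq_abs] at hnorm
    have h1 := neg_le_abs (9 - 22 * (r : ℝ))
    linarith
  apply hy1
  apply eq_one_of_value_eq (⟨ρ.character, n, ρ, hρ, rfl⟩ : IrrCharacter G)
  · rw [hd9]
    norm_num
  · rw [hr0] at hval
    simp only
    rw [hval, hone]
    norm_num

end N45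

section Main11

variable {G : Type u} [Group G] [Fintype G] [IsSimpleGroup G]

/-- The local structure at 11. -/
theorem local11 (hG : Nat.card G = 7920) (P : Sylow 11 G) :
    Nat.card (normalizer ((P : Subgroup G) : Set G)) = 55 ∧
      ∃ x : G, orderOf x = 11 ∧ zpowers x = (P : Subgroup G) ∧ ∀ c : G, c * x = x * c → c ∈ zpowers x := by
  classical
  haveI : Fact (Nat.Prime 11) := ⟨by norm_num⟩
  have hN : Nat.card G = 11 * 720 := by rw [hG]
  have hcard := card_sylow_of_card hN (by norm_num) P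
  obtain ⟨x, hx, hz⟩ := exists_gen hcard
  obtain ⟨h1, h2, h3⟩ := sylow_arith hN (by norm_num) P
  have hcases : Nat.card (Sylow 11 G) ∈ (Nat.divisors 720).filter (fun d => d % 11 = 1) :=
    Finset.mem_filter.2 ⟨Nat.mem_divisors.2 ⟨h1, by norm_num⟩, by omega⟩
  have hlist : (Nat.divisors 720).filter (fun d => d % 11 = 1) = {1, 12, 45, 144} := by decide +kernel
  rw [hlist] at hcases
  simp only [Finset.mem_insert, Finset.mem_singleton] at hcases
  have hcen : centralizer ((P : Subgroup G) : Set G) ≤ normalizer ((P : Subgroup G) : Set G) :=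
    Subgroup.centralizer_le_normalizer _
  have hburn : ¬ normalizer ((P : Subgroup G) : Set G) ≤ centralizer ((P : Subgroup G) : Set G) := by
    intro hle
    have h4 := Cfsg.Agent.Lib.Basic.SmallSimple.card_eq_of_le_centralizer (by rw [hG]; norm_num) P hle
    rw [hcard, hG] at h4
    omega
  rcases hcases with h | h | h | h
  · exfalso
    rw [h, one_mul] at h3
    apply hburn
    have h4 : normalizer ((P : Subgroup G) : Set G) = ⊤ := by
      apply Subgroup.eq_top_of_card_eq
      omega
    haveI : (P : Subgroup G).Normal := Subgroup.normalizer_eq_top_iff.1 h4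
    rcases (inferInstance : IsSimpleGroup G).eq_bot_or_eq_top_of_normal (P : Subgroup G) inferInstance with h5 | h5
    · rw [h5] at hcard
      simp at hcard
    · rw [h5, Subgroup.card_top, hG] at hcard
      omega
  · exfalso
    have hself := fun (c : G) (hc : c * x = x * c) => selfC_of_succ P hcard h hx hz hc
    have hdvd := card_norm_dvd hcard
    have hNc : Nat.card (normalizer ((P : Subgroup G) : Set G)) = 660 := by
      rw [h] at h3
      omega
    rw [hNc] at hdvd
    have hC : centralizer ((P : Subgroup G) : Set G) ≤ zpowers x := by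
      intro c hc
      apply hself
      rw [← hz] at hc
      exact mem_cent_zpowers.1 hc
    have h5 := Subgroup.card_dvd_of_le hC
    rw [Nat.card_zpowers, hx] at h5
    have h6 : Nat.card (centralizer ((P : Subgroup G) : Set G)) ≤ 11 := Nat.le_of_dvd (by norm_num) h5
    have h7 := Nat.le_of_dvd (by
      have : 0 < Nat.card (centralizer ((P : Subgroup G) : Set G)) := Nat.card_pos
      positivity) hdvd
    omega
  · exact (no45 hG P h).elim
  · have hNc : Nat.card (normalizer ((P : Subgroup G) : Set G)) = 55 := by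
      rw [h] at h3
      omega
    refine ⟨hNc, x, hx, hz, ?_⟩
    have hdvd := card_norm_dvd hcard
    rw [hNc] at hdvd
    have hCd : Nat.card (centralizer ((P : Subgroup G) : Set G)) ∣ 55 := by
      rw [← hNc]
      exact Subgroup.card_dvd_of_le hcen
    have hC11 : Nat.card (centralizer ((P : Subgroup G) : Set G)) = 11 := by
      have h4 : 11 ∣ Nat.card (centralizer ((P : Subgroup G) : Set G)) := by
        have : 11 ∣ Nat.card (centralizer ((P : Subgroup G) : Set G)) * 2 := by
          obtain ⟨k, hk⟩ := hdvd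
          exact ⟨k, by omega⟩
        exact Nat.Coprime.dvd_of_dvd_mul_right (by norm_num) this
      have h5 : Nat.card (centralizer ((P : Subgroup G) : Set G)) ≠ 55 := by
        intro h6
        apply hburn
        have h7 : centralizer ((P : Subgroup G) : Set G) = normalizer ((P : Subgroup G) : Set G) := by
          apply Subgroup.eq_of_le_of_card_ge hcen
          rw [hNc, h6]
        rw [h7]
      have h6 : Nat.card (centralizer ((P : Subgroup G) : Set G)) ∈ Nat.divisors 55 := Nat.mem_divisors.2 ⟨hCd, by norm_num⟩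
      have h7 : Nat.divisors 55 = {1, 5, 11, 55} := by decide +kernel
      rw [h7] at h6
      simp only [Finset.mem_insert, Finset.mem_singleton] at h6
      rcases h6 with h8 | h8 | h8 | h8
      · omega
      · omega
      · exact h8
      · exact absurd h8 h5
    intro c hc
    have h4 : zpowers x ≤ centralizer ((P : Subgroup G) : Set G) := by
      rw [zpowers_le, ← hz]
      exact mem_cent_zpowers.2 rfl
    have h5 : zpowers x = centralizer ((P : Subgroup G) : Set G) := by
      apply Subgroup.eq_of_le_of_card_ge h4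
      rw [hC11, Nat.card_zpowers, hx]
    rw [h5, ← hz]
    exact mem_cent_zpowers.2 hc

end Main11

end Cfsg.Agent.Lib.M11Order
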